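import Groth.Agent.EssDimLib.ConicModel
import Mathlib.RingTheory.AlgebraicIndependent.TranscendenceBasis
import Mathlib.FieldTheory.IntermediateField.Adjoin.Basic

/-! Families of diagonal conics over fields and their fields of definition. -/

set_option autoImplicit false
set_option linter.style.haveILetI false
set_option linter.unusedSectionVars false
set_option backward.isDefEq.respectTransparency false
set_option backward.isDefEq.respectTransparency.types false

universe u

open CategoryTheory CategoryTheory.Limits AlgebraicGeometry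

noncomputable section

namespace Groth.Agent.EssDimLib.ConicModel

open Groth.Agent

/-- The structure map of a conic. -/
abbrev cStr {k : Type u} [Field k] (G : LefPen.Form 2 k 2) :
    (LefPen.hypIdeal G).subscheme ⟶ Spec (CommRingCat.of k) :=
  (LefPen.hypIdeal G).subschemeι ≫ CohB1.ProjSpace.toSpec 2 k

/-- A smooth conic of dimension one is a curve of genus zero. -/
theorem isCurveOfGenus_conic {K : Type u} [Field K] {G : LefPen.Form 2 K 2} (hG : G ≠ 0)
    (hs : Smooth (cStr G)) (hdim : topologicalKrullDim ↥(LefPen.hypIdeal G).subscheme = 1) :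
    ModFun.IsCurveOfGenus 0 (cStr G) := by
  letI : (LefPen.hypIdeal G).subscheme.Over (Spec (CommRingCat.of K)) := ⟨cStr G⟩
  haveI hp : IsProper ((LefPen.hypIdeal G).subscheme ↘ Spec (CommRingCat.of K)) := HypCurve.plane_curve_proper G
  haveI : Smooth ((LefPen.hypIdeal G).subscheme ↘ Spec (CommRingCat.of K)) := hs
  obtain ⟨h0, h1⟩ := HypCurve.finrank_planeCurve (k := K) 2 (by norm_num) hG rfl
  have hgi := SmoothCurveFam.geometricallyIntegral K (LefPen.hypIdeal G).subscheme h0
  haveI : GeometricallyIntegral (cStr G) := hgi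
  haveI := AmpleVan.compactSpace_of_proper (A := K) (X := (LefPen.hypIdeal G).subscheme)
  haveI := AmpleVan.isSeparated_of_proper (A := K) (X := (LefPen.hypIdeal G).subscheme)
  refine ⟨hs, hp, inferInstance, fun Ω _ _ t X i q hpb => ?_⟩
  obtain ⟨φ, rfl⟩ := Spec.map_surjective t
  letI : Algebra K Ω := φ.hom.toAlgebra
  haveI : IsProper (cStr G) := hp
  haveI : IsProper q := MorphismProperty.of_isPullback hpb hp
  haveI : Subsingleton (Spec (CommRingCat.of K)) := inferInstanceAs (Subsingleton (PrimeSpectrum K))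
  haveI : Subsingleton (Spec (CommRingCat.of Ω)) := inferInstanceAs (Subsingleton (PrimeSpectrum Ω))
  refine ⟨(FibDim.topologicalKrullDim_baseChange hpb).trans hdim, ?_⟩
  letI : X.Over (Spec (CommRingCat.of Ω)) := ⟨q⟩
  show Module.finrank Ω (Coh.HH X (Coh.structureModule X) 1) = 0
  exact (CurveBC.finrank_hh_unit K Ω i hpb 1).trans (h1.trans rfl)

/-- A curve of genus zero descends, as a diagonal conic, to a field generated by two elements. -/
theorem exists_model {k L : Type u} [Field k] [CharZero k] [Field L] [Algebra k L] {C : Scheme.{u}}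
    {f : C ⟶ Spec (CommRingCat.of L)} (h : ModFun.IsCurveOfGenus 0 f) :
    ∃ (K : IntermediateField k L) (C₀ : Scheme.{u}) (f₀ : C₀ ⟶ Spec (CommRingCat.of K)) (top : C ⟶ C₀),
      Cardinal.toENat (Algebra.trdeg k K) ≤ (2 : ℕ) ∧ ModFun.IsCurveOfGenus 0 f₀ ∧
        IsPullback top f f₀ (Spec.map (CommRingCat.ofHom (algebraMap K L))) := by
  obtain ⟨hsm, hp, hgi, hfib⟩ := h
  haveI : CharZero L := charZero_of_injective_algebraMap (algebraMap k L).injective
  letI : C.Over (Spec (CommRingCat.of L)) := ⟨f⟩
  haveI : IsProper (C ↘ Spec (CommRingCat.of L)) := hp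
  haveI : Smooth (C ↘ Spec (CommRingCat.of L)) := hsm
  haveI : GeometricallyConnected (C ↘ Spec (CommRingCat.of L)) := ⟨fun K _ y Z pfst psnd hsq => by
    haveI : IrreducibleSpace Z := hgi.geometrically_irreducibleSpace y pfst psnd hsq
    infer_instance⟩
  have h0 := CurveBC.finrank_h0_of_geometricallyConnected L C
  haveI : IsIntegral C := CurveBC.isIntegral_of_h0 L C h0
  let Ω := AlgebraicClosure L
  have hpb := IsPullback.of_hasPullback f (Spec.map (CommRingCat.ofHom (algebraMap L Ω)))
  obtain ⟨hd, hg⟩ := hfib Ω _ _ _ _ hpb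
  have hdim : topologicalKrullDim C = 1 := (FibDim.topologicalKrullDim_baseChange hpb).symm.trans hd
  haveI := AmpleVan.compactSpace_of_proper (A := L) (X := C)
  haveI := AmpleVan.isSeparated_of_proper (A := L) (X := C)
  haveI := CurveCohLib.isNoetherian_of_proper (k := L) (X := C)
  have h1 : Subsingleton (Coh.HH C (Coh.structureModule C) 1) := by
    haveI := CurveCohLib.finite_HH (k := L) (QCoh.isCoh_structureModule' (X := C)) 1
    refine (Module.finrank_zero_iff (R := L)).1 ?_
    letI : (pullback f (Spec.map (CommRingCat.ofHom (algebraMap L Ω)))).Over (Spec (CommRingCat.of Ω)) :=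
      ⟨pullback.snd f (Spec.map (CommRingCat.ofHom (algebraMap L Ω)))⟩
    exact (CurveBC.finrank_hh_unit L Ω (pullback.fst f _) hpb 1).symm.trans hg
  obtain ⟨a, b, ha, hb, j, hj⟩ := exists_conic (k := L) (X := C) two_ne_zero hdim h0 h1
  let K : IntermediateField k L := IntermediateField.adjoin k {a, b}
  let a₀ : K := ⟨a, IntermediateField.subset_adjoin k _ (Set.mem_insert a {b})⟩
  let b₀ : K := ⟨b, IntermediateField.subset_adjoin k _ (Set.mem_insert_of_mem a (Set.mem_singleton b))⟩
  let G₀ := diag ![1, a₀, b₀]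
  have hd₀ : ∀ l, (![1, a₀, b₀] : Fin 3 → K) l ≠ 0 := fun l => by
    fin_cases l
    · exact one_ne_zero
    · exact fun h => ha (congrArg Subtype.val h)
    · exact fun h => hb (congrArg Subtype.val h)
  have hG : (diag ![1, a, b]).1 = HypCurve.Scale.subst K L (fun _ => 1) G₀.1 := by
    simp [G₀, diag, HypCurve.Scale.subst, Fin.sum_univ_three, a₀, b₀]
  obtain ⟨m, hm⟩ := HypCurve.Scale.exists_isPullback K L (fun _ => 1) G₀ hG
  haveI : CharZero K := inferInstance
  have hs₀ : Smooth (cStr G₀) := smooth_diag two_ne_zero hd₀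
  have sq : IsPullback (j.hom ≫ m) f (cStr G₀) (Spec.map (CommRingCat.ofHom (algebraMap K L))) := by
    have sq₁ : IsPullback j.hom f (cStr (diag ![1, a, b])) (𝟙 _) :=
      IsPullback.of_horiz_isIso ⟨by rw [Category.comp_id]; exact hj⟩
    have := sq₁.paste_horiz hm
    rwa [Category.id_comp] at this
  haveI : IsProper (cStr G₀) := HypCurve.plane_curve_proper G₀
  haveI : IsProper f := hp
  haveI : Subsingleton (Spec (CommRingCat.of K)) := inferInstanceAs (Subsingleton (PrimeSpectrum K))
  haveI : Subsingleton (Spec (CommRingCat.of L)) := inferInstanceAs (Subsingleton (PrimeSpectrum L))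
  have hd0 := (FibDim.topologicalKrullDim_baseChange sq).symm.trans hdim
  refine ⟨K, _, cStr G₀, j.hom ≫ m, ?_, isCurveOfGenus_conic (diag_ne_zero (hd₀ 0)) hs₀ hd0, sq⟩
  let s : Set K := {a₀, b₀}
  haveI : Algebra.IsAlgebraic (Algebra.adjoin k s) K := by
    refine ⟨fun z => ?_⟩
    suffices ∀ (x : L) (hx : x ∈ K), IsAlgebraic (Algebra.adjoin k s) (⟨x, hx⟩ : K) from this z.1 z.2
    intro x hx
    induction hx using IntermediateField.adjoin_induction with
    | mem x hx =>
      refine isAlgebraic_algebraMap (R := Algebra.adjoin k s)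
        (⟨⟨x, IntermediateField.subset_adjoin k _ hx⟩, Algebra.subset_adjoin ?_⟩ : Algebra.adjoin k s)
      rcases hx with rfl | hx
      · exact Set.mem_insert _ _
      · cases hx; exact Set.mem_insert_of_mem _ rfl
    | algebraMap c => exact isAlgebraic_algebraMap (R := Algebra.adjoin k s) (algebraMap k _ c)
    | add x y hx hy h₁ h₂ => exact h₁.add h₂
    | inv x hx h₁ => exact (IsAlgebraic.inv_iff.2 h₁ : IsAlgebraic _ (⟨x, hx⟩ : K)⁻¹)
    | mul x y hx hy h₁ h₂ => exact h₁.mul h₂
  have hcard : Algebra.trdeg k K ≤ ((2 : ℕ) : Cardinal) := by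
    refine (Algebra.IsAlgebraic.trdeg_le_cardinalMk k s).trans ?_
    refine Cardinal.mk_insert_le.trans ?_
    rw [Cardinal.mk_singleton]
    norm_num
  exact (Cardinal.toENat.monotone' hcard).trans (Cardinal.toENat_nat 2).le

end Groth.Agent.EssDimLib.ConicModel
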