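import Groth.Agent.CurveEmbed.Conic
import Groth.Agent.CurveEmbed.Equiv
import Groth.Agent.SepCurveTwist.Rational
import Groth.Agent.HypCurve.Scale
import Groth.Agent.Lib.SmoothCurveFam
import Groth.Agent.FibDim.AffineSpaceFibre
import Groth.Agent.FibDim.Basic
import Groth.Agent.S10829
import Groth.Agent.S7810
import Groth.Prelude.Def_ModFun

/-! Curves of genus zero with a rational point. -/

set_option autoImplicit false
set_option linter.style.haveILetI false
set_option linter.unusedSectionVars false
set_option backward.isDefEq.respectTransparency false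
set_option backward.isDefEq.respectTransparency.types false

universe u

open CategoryTheory CategoryTheory.Limits AlgebraicGeometry

noncomputable section

namespace Groth.Agent.EssDimLib

open Groth.Agent

/-- A curve of genus zero with a rational point is the projective line. -/
theorem exists_iso_line {L : Type u} [Field L] {C : Scheme.{u}} {f : C ⟶ Spec (CommRingCat.of L)}
    (h : ModFun.IsCurveOfGenus 0 f) (s : Spec (CommRingCat.of L) ⟶ C) (hs : s ≫ f = 𝟙 _) :
    ∃ e : C ≅ CohB1.ProjSpace 1 L, e.hom ≫ CohB1.ProjSpace.toSpec 1 L = f := by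
  obtain ⟨hsm, hp, hgi, hfib⟩ := h
  letI : C.Over (Spec (CommRingCat.of L)) := ⟨f⟩
  haveI : IsProper (C ↘ Spec (CommRingCat.of L)) := hp
  haveI : Smooth (C ↘ Spec (CommRingCat.of L)) := hsm
  haveI : GeometricallyIrreducible f := hgi
  haveI : GeometricallyConnected (C ↘ Spec (CommRingCat.of L)) := ⟨fun K _ y Z pfst psnd hsq => by
    haveI : IrreducibleSpace Z := hgi.geometrically_irreducibleSpace y pfst psnd hsq
    infer_instance⟩
  haveI : IsIntegral C := CurveBC.isIntegral_of_h0 L C (CurveBC.finrank_h0_of_geometricallyConnected L C)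
  let Ω := AlgebraicClosure L
  let t := Spec.map (CommRingCat.ofHom (algebraMap L Ω))
  have hpb := IsPullback.of_hasPullback f t
  obtain ⟨hd, hg⟩ := hfib Ω t _ _ _ hpb
  have hdim : topologicalKrullDim C = 1 :=
    (FibDim.topologicalKrullDim_baseChange hpb).symm.trans hd
  haveI := AmpleVan.compactSpace_of_proper (A := L) (X := C)
  haveI := AmpleVan.isSeparated_of_proper (A := L) (X := C)
  haveI := CurveCohLib.isNoetherian_of_proper (k := L) (X := C)
  have h1 : Subsingleton (Coh.HH C (Coh.structureModule C) 1) := by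
    haveI := CurveCohLib.finite_HH (k := L) (QCoh.isCoh_structureModule' (X := C)) 1
    refine (Module.finrank_zero_iff (R := L)).1 ?_
    letI : (pullback f t).Over (Spec (CommRingCat.of Ω)) := ⟨pullback.snd f t⟩
    exact (CurveBC.finrank_hh_unit L Ω (pullback.fst f t) hpb 1).symm.trans hg
  obtain ⟨hx, -, hres⟩ := CurveEmbed.section_point (k := L) s hs
  exact CurveEmbed.exists_iso_line_of_point L hdim h1 hx
    (by rw [Scheme.Hom.smoothLocus_eq_top (C ↘ Spec (CommRingCat.of L))]; trivial) hres

theorem isCurveOfGenus_line (K : Type u) [Field K] : ModFun.IsCurveOfGenus 0 (CohB1.ProjSpace.toSpec 1 K) := by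
  letI : (CohB1.ProjSpace 1 K).Over (Spec (CommRingCat.of K)) := ⟨CohB1.ProjSpace.toSpec 1 K⟩
  haveI : IsProper ((CohB1.ProjSpace 1 K) ↘ Spec (CommRingCat.of K)) := PnCoh.Chow.isProper_toSpec 1 K
  haveI : Smooth ((CohB1.ProjSpace 1 K) ↘ Spec (CommRingCat.of K)) := CurveEmbed.smooth_toSpec 1 K
  have hgi := SmoothCurveFam.geometricallyIntegral K (CohB1.ProjSpace 1 K) (S7810.projLine_facts K).1
  haveI : GeometricallyIntegral (CohB1.ProjSpace.toSpec 1 K) := hgi
  haveI := AmpleVan.compactSpace_of_proper (A := K) (X := CohB1.ProjSpace 1 K)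
  haveI := AmpleVan.isSeparated_of_proper (A := K) (X := CohB1.ProjSpace 1 K)
  refine ⟨CurveEmbed.smooth_toSpec 1 K, PnCoh.Chow.isProper_toSpec 1 K, inferInstance,
    fun Ω _ _ t X i q hpb => ?_⟩
  obtain ⟨φ, rfl⟩ := Spec.map_surjective t
  letI : Algebra K Ω := φ.hom.toAlgebra
  let e := IsPullback.isoIsPullback _ _ hpb (HypCurve.Scale.isPullback_map (r := 1) K Ω (fun _ => 1))
  refine ⟨(IsHomeomorph.topologicalKrullDim_eq _ e.hom.homeomorph.isHomeomorph).trans
    ((S10829.result Ω 1).trans (by simp)), ?_⟩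
  letI : X.Over (Spec (CommRingCat.of Ω)) := ⟨q⟩
  show Module.finrank Ω (Coh.HH X (Coh.structureModule X) 1) = 0
  exact (CurveBC.finrank_hh_unit K Ω i hpb 1).trans (S7810.projLine_facts K).2

end Groth.Agent.EssDimLib
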