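import Groth.Agent.CurveEmbed.Main
import Groth.Agent.CurveBC.Main
import Groth.Agent.CurveCohLib.Skyscraper
import Groth.Agent.Lib.CurveDualPrep
import Groth.Agent.GeomField.GlobalFunctions
import Groth.Agent.CurveFF.Base
import Groth.Agent.HypCurve.PlaneGenusOne
import Groth.Agent.EssDimLib.GenusZero
import Mathlib.LinearAlgebra.QuadraticForm.Basic

/-! Curves of genus zero are diagonal plane conics. -/

set_option autoImplicit false
set_option linter.style.haveILetI false
set_option linter.unusedSectionVars false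
set_option backward.isDefEq.respectTransparency false
set_option backward.isDefEq.respectTransparency.types false

universe u

open CategoryTheory CategoryTheory.Limits AlgebraicGeometry TopologicalSpace Opposite

noncomputable section

namespace Groth.Agent.EssDimLib.ConicModel

open Groth.Agent

/-- A quadratic relation among three independent elements can be diagonalised. -/
theorem exists_diag_rel {k : Type u} [Field k] (h2 : (2 : k) ≠ 0) {K : Type u} [Field K] (ι : k →+* K)
    (hclosed : ∀ x : K, x ^ 2 ∈ ι.range → x ∈ ι.range) (f : Fin 3 → K)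
    (hf : ∀ c : Fin 3 → k, ∑ j, ι (c j) * f j = 0 → c = 0)
    (B : Matrix (Fin 3) (Fin 3) k) (hB : B.IsSymm) (hB0 : B ≠ 0)
    (hrel : ∑ i, ∑ j, ι (B i j) * f i * f j = 0) :
    ∃ (P : Matrix (Fin 3) (Fin 3) k) (d : Fin 3 → k), IsUnit P ∧ (∀ l, d l ≠ 0) ∧
      ∑ l, ι (d l) * (∑ j, ι (P l j) * f j) ^ 2 = 0 := by
  classical
  haveI : Invertible (2 : k) := invertibleOfNonzero h2
  let BF := Matrix.toBilin' B
  have hsym : LinearMap.IsSymm BF :=
    ⟨fun x y => by
      simp only [BF, Matrix.toBilin'_apply', RingHom.id_apply]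
      rw [Matrix.dotProduct_mulVec, ← Matrix.mulVec_transpose, hB.eq, dotProduct_comm]⟩
  obtain ⟨v, hv⟩ := LinearMap.BilinForm.exists_orthogonal_basis hsym
  let e : Fin (Module.finrank k (Fin 3 → k)) ≃ Fin 3 := finCongr (by simp)
  let w := v.reindex e
  let Q : Matrix (Fin 3) (Fin 3) k := (Pi.basisFun k (Fin 3)).toMatrix w
  let P : Matrix (Fin 3) (Fin 3) k := w.toMatrix (Pi.basisFun k (Fin 3))
  have hQP : Q * P = 1 := Module.Basis.toMatrix_mul_toMatrix_flip _ _
  have hPQ : P * Q = 1 := Module.Basis.toMatrix_mul_toMatrix_flip _ _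
  let d : Fin 3 → k := fun l => BF (w l) (w l)
  have horth : Q.transpose * B * Q = Matrix.diagonal d := by
    ext l m
    have h : (Q.transpose * B * Q) l m = BF (w l) (w m) := by
      simp only [BF, Q, Matrix.toBilin'_apply', Matrix.mul_apply, Matrix.transpose_apply,
        Module.Basis.toMatrix_apply, Pi.basisFun_repr, dotProduct, Matrix.mulVec, Finset.sum_mul, Finset.mul_sum]
      rw [Finset.sum_comm]
      exact Finset.sum_congr rfl fun i _ => Finset.sum_congr rfl fun j _ => by ring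
    rw [h, Matrix.diagonal_apply]
    split_ifs with hlm
    · subst hlm; rfl
    · simp only [w, Module.Basis.reindex_apply]
      exact hv fun h' => hlm (e.symm.injective h')
  have hdec : B = P.transpose * Matrix.diagonal d * P := by
    rw [← horth]
    have h := congrArg Matrix.transpose hQP
    rw [Matrix.transpose_mul, Matrix.transpose_one] at h
    simp only [Matrix.mul_assoc]
    rw [hQP, Matrix.mul_one, ← Matrix.mul_assoc, h, Matrix.one_mul]
  let g : Fin 3 → K := fun l => ∑ j, ι (P l j) * f j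
  have hrel' : ∑ l, ι (d l) * g l ^ 2 = 0 := by
    rw [← hrel, hdec]
    simp only [g, Matrix.mul_apply, Matrix.transpose_apply, Matrix.diagonal_apply, Fin.sum_univ_three, map_add,
      map_mul]
    simp
    ring
  have hg : ∀ c : Fin 3 → k, ∑ l, ι (c l) * g l = 0 → c = 0 := by
    intro c hc
    have h : Matrix.vecMul c P = 0 := hf _ (by
      rw [← hc]
      simp only [g, Matrix.vecMul, dotProduct, map_sum, map_mul, Finset.sum_mul, Finset.mul_sum]
      rw [Finset.sum_comm]
      exact Finset.sum_congr rfl fun i _ => Finset.sum_congr rfl fun j _ => by ring)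
    have h' := congrArg (fun x => Matrix.vecMul x Q) h
    simpa [Matrix.vecMul_vecMul, hPQ] using h'
  have hg0 : ∀ l, g l ≠ 0 := fun l hl => by
    have h := hg (Pi.single l 1) (by simp [Pi.single_apply, apply_ite ι, ite_mul, hl])
    simpa using congrFun h l
  have hgi : ∀ l m, l ≠ m → ∀ a : k, g l ≠ ι a * g m := fun l m hlm a hl => by
    have h := hg (Pi.single l 1 - Pi.single m a) (by
      simp [Pi.single_apply, apply_ite ι, ite_mul, sub_mul, Finset.sum_sub_distrib, hl])
    simpa [hlm] using congrFun h l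
  refine ⟨P, d, isUnit_iff_exists.2 ⟨Q, hPQ, hQP⟩, ?_, hrel'⟩
  by_contra hne
  push Not at hne
  obtain ⟨l₀, hl₀⟩ := hne
  have key : ∀ l m, l ≠ m → ι (d l) * g l ^ 2 + ι (d m) * g m ^ 2 = 0 → d l = 0 := by
    intro l m hlm h
    by_contra hl
    have hl' : ι (d l) ≠ 0 := fun h' => hl (ι.injective (h'.trans ι.map_zero.symm))
    obtain ⟨a, ha⟩ := hclosed (g l / g m) ⟨-d m / d l, by
      rw [map_div₀, map_neg, div_pow]
      have := hg0 m
      field_simp
      linear_combination -h⟩
    exact hgi l m hlm a (by rw [ha, div_mul_cancel₀ _ (hg0 m)])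
  have hd : d = 0 := by
    funext l
    rw [Fin.sum_univ_three] at hrel'
    fin_cases l₀ <;> simp at hl₀ <;> simp [hl₀] at hrel'
    · fin_cases l
      · exact hl₀
      · exact key 1 2 (by decide) hrel'
      · exact key 2 1 (by decide) (by linear_combination hrel')
    · fin_cases l
      · exact key 0 2 (by decide) hrel'
      · exact hl₀
      · exact key 2 0 (by decide) (by linear_combination hrel')
    · fin_cases l
      · exact key 0 1 (by decide) hrel'
      · exact key 1 0 (by decide) (by linear_combination hrel')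
      · exact hl₀
  exact hB0 (by rw [hdec, hd]; simp)

/-- The diagonal conic. -/
def diag {k : Type u} [Field k] (d : Fin 3 → k) : LefPen.Form 2 k 2 :=
  ⟨∑ l, MvPolynomial.C (d l) * MvPolynomial.X l ^ 2,
    MvPolynomial.IsHomogeneous.sum _ _ _ fun l _ => MvPolynomial.isHomogeneous_C_mul_X_pow (d l) l 2⟩

theorem diag_ne_zero {k : Type u} [Field k] {d : Fin 3 → k} (h : d 0 ≠ 0) : diag d ≠ 0 := fun h0 => h (by
  have h1 := congrArg (MvPolynomial.eval (Pi.single (0 : Fin (2 + 1)) (1 : k))) (congrArg Subtype.val h0)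
  simpa [diag, Fin.sum_univ_three, Pi.single_apply] using h1)

theorem smooth_diag {k : Type u} [Field k] (h2 : (2 : k) ≠ 0) {d : Fin 3 → k} (h : ∀ l, d l ≠ 0) :
    Smooth ((LefPen.hypIdeal (diag d)).subschemeι ≫ CohB1.ProjSpace.toSpec 2 k) := by
  rw [HypCurve.smooth_iff_no_singular_point (diag_ne_zero (h 0))]
  intro i v hv _
  refine ⟨i, ?_⟩
  have h2' : (2 : AlgebraicClosure k) ≠ 0 := by
    rw [← map_ofNat (algebraMap k (AlgebraicClosure k)) 2]
    exact fun h' => h2 ((algebraMap k (AlgebraicClosure k)).injective (h'.trans (map_zero _).symm))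
  simp [diag, map_sum, MvPolynomial.pderiv_X, Pi.single_apply, apply_ite, hv, h i, h2']

section Curve

variable {k : Type u} [Field k] {X : Scheme.{u}} [X.Over (Spec (CommRingCat.of k))] [IsIntegral X]
  [IsProper (X ↘ Spec (CommRingCat.of k))] [Smooth (X ↘ Spec (CommRingCat.of k))]

open CurveCohLib.Polar InvX H23

/-- The constants are closed under square roots in the function field. -/
theorem mem_range_cK (hdim : topologicalKrullDim X = 1)
    (h0 : Module.finrank k (Coh.HH X (Coh.structureModule X) 0) = 1) (c : X.functionField)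
    (hc : c ^ 2 ∈ (cK (X := X) k).range) : c ∈ (cK (X := X) k).range := by
  obtain ⟨a, ha⟩ := hc
  haveI := CurveCohLib.isNoetherian_of_proper (k := k) (X := X)
  have hR : ∀ z : X, InR z c := fun z => by
    by_cases hz : IsClosed ({z} : Set X)
    · haveI := CurveEmbed.isIntegrallyClosed_of_smooth k hdim hz
        (by rw [Scheme.Hom.smoothLocus_eq_top (X ↘ Spec (CommRingCat.of k))]; trivial)
      obtain ⟨m, hm⟩ := inR_cK k z a
      have hint : _root_.IsIntegral (X.presheaf.stalk z) c := IsIntegral.of_pow two_pos (by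
        rw [← ha, ← hm]; exact isIntegral_algebraMap)
      obtain ⟨y, hy⟩ := IsIntegrallyClosed.isIntegral_iff.1 hint
      exact ⟨y, hy⟩
    · obtain rfl := CurveCohLib.eq_genericPoint_of_not_isClosed hdim hz
      exact ⟨c, CurveFF.algebraMap_generic X c⟩
  obtain ⟨r, hr⟩ := exists_of_forall_inR (W := ⊤) fun z _ => hR z
  letI := GeomField.globalAlgebra (k := k) (X := X)
  have h1 : Module.finrank k Γ(X, ⊤) = 1 := (GeomField.finrank_HH_zero (k := k) (X := X)).symm.trans h0
  haveI : Nontrivial Γ(X, ⊤) := inferInstance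
  obtain ⟨b, hb⟩ := (finrank_eq_one_iff_of_nonzero' (1 : Γ(X, ⊤)) one_ne_zero).1 h1 r
  refine ⟨b, ?_⟩
  rw [← hr (x := genericPoint X) trivial, ← hb, Algebra.smul_def, mul_one]
  rfl

variable {L : X.Modules} {U : X.Opens} {e : Γ(L, U)} (he : IsFrame e) (hU : genericPoint X ∈ U)

/-- The rational function of a section with respect to a frame. -/
def ev (a : Γ(L, ⊤)) : X.functionField :=
  gη hU (he.exists_coord le_rfl (AModX.res L (le_top : U ≤ ⊤) a)).choose

theorem ev_eq {W : X.Opens} (hW : W ≤ U) (hη : genericPoint X ∈ W) (a : Γ(L, ⊤)) (r : Γ(X, W))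
    (hr : AModX.res L (le_top : W ≤ ⊤) a = r • AModX.res L hW e) : ev he hU a = gη hη r := by
  have h := (he.exists_coord le_rfl (AModX.res L (le_top : U ≤ ⊤) a)).choose_spec
  have h' := congrArg (AModX.res L hW) h
  rw [AModX.res_res, AModX.res_smul, AModX.res_res] at h'
  rw [ev, ← he.coord_unique hW (hr.symm.trans h').symm, gη_res]

theorem ev_add (a b : Γ(L, ⊤)) : ev he hU (a + b) = ev he hU a + ev he hU b := by
  have ha := (he.exists_coord le_rfl (AModX.res L (le_top : U ≤ ⊤) a)).choose_spec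
  have hb := (he.exists_coord le_rfl (AModX.res L (le_top : U ≤ ⊤) b)).choose_spec
  rw [ev_eq he hU le_rfl hU (a + b) _ (by rw [map_add, ha, hb, add_smul]), map_add]
  rfl

theorem ev_smul (c : k) (a : Γ(L, ⊤)) :
    ev he hU ((X ↘ Spec (CommRingCat.of k)).appTop ((Scheme.ΓSpecIso (CommRingCat.of k)).inv c) • a) =
      cK k c * ev he hU a := by
  have ha := (he.exists_coord le_rfl (AModX.res L (le_top : U ≤ ⊤) a)).choose_spec
  rw [ev_eq he hU le_rfl hU _ _ (by rw [AModX.res_smul, ha, smul_smul]), map_mul,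
    gη_res (W := ⊤) le_top hU (y := genericPoint X) trivial]
  rfl

/-- The value as a homomorphism. -/
def evHom : Γ(L, ⊤) →+ X.functionField := AddMonoidHom.mk' (ev he hU) (ev_add he hU)

theorem ev_zero : ev he hU 0 = 0 := map_zero (evHom he hU)

theorem ev_eq_zero {a : Γ(L, ⊤)} (hL : PicF.IsInvertible L) (h : ev he hU a = 0) : a = 0 := by
  by_contra ha
  obtain ⟨z, hz⟩ := (Opens.ne_bot_iff_nonempty _).1 (TrivBasic.locus_ne_bot hL ha)
  have hη : genericPoint X ∈ TrivBasic.locus a ⊓ U := ⟨eta_mem hz, hU⟩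
  have hfr : IsFrame (AModX.res L (le_top : TrivBasic.locus a ⊓ U ≤ ⊤) a) :=
    TrivBasic.isFrame_res_of_le_locus inf_le_left
  obtain ⟨r, hr⟩ := he.exists_coord (inf_le_right : TrivBasic.locus a ⊓ U ≤ U) (AModX.res L le_top a)
  rw [ev_eq he hU inf_le_right hη a r hr] at h
  have hr0 : r = 0 := gη_injective hη (h.trans (map_zero _).symm)
  rw [hr0, zero_smul] at hr
  have h1 : (1 : Γ(X, TrivBasic.locus a ⊓ U)) = 0 :=
    hfr.coord_unique le_rfl (by rw [AModX.res_self, hr, smul_zero, smul_zero])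
  exact one_ne_zero (α := X.functionField) (by rw [← map_one (gη hη), h1, map_zero])

theorem ev_tmul (a b : Γ(L, ⊤)) :
    ev (isFrame_tmul he he) hU (tmul a b : Γ(CohB1.tensorMod L L, ⊤)) = ev he hU a * ev he hU b := by
  have ha := (he.exists_coord le_rfl (AModX.res L (le_top : U ≤ ⊤) a)).choose_spec
  have hb := (he.exists_coord le_rfl (AModX.res L (le_top : U ≤ ⊤) b)).choose_spec
  rw [ev_eq (isFrame_tmul he he) hU le_rfl hU _ _ (by
    rw [res_tmul, ha, hb, tmul_smul_left, tmul_smul_right, smul_smul, res_tmul]), map_mul]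
  rfl

/-- Spanning sections have no common zero when two sections have none. -/
theorem exists_mem_locus_of_span (hL : PicF.IsInvertible L) {n : ℕ} (σ : Fin n → Γ(L, ⊤))
    (hspan : ∀ z : Γ(L, ⊤), ∃ c : Fin n → k,
      z = ∑ j, (X ↘ Spec (CommRingCat.of k)).appTop ((Scheme.ΓSpecIso (CommRingCat.of k)).inv (c j)) • σ j)
    (x : X) (s t : Γ(L, ⊤)) (hst : x ∈ TrivBasic.locus s ∨ x ∈ TrivBasic.locus t) :
    ∃ j, x ∈ TrivBasic.locus (σ j) := by
  by_contra! hne
  have hmem : ∀ z : Γ(L, ⊤), x ∉ TrivBasic.locus z := fun z hz => by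
    obtain ⟨V, hxV, fr, hfr⟩ := exists_frame hL x
    choose a ha using fun w : Γ(L, ⊤) => hfr.exists_coord le_rfl (AModX.res L (le_top : V ≤ ⊤) w)
    simp only [AModX.res_self] at ha
    have hnot : ∀ w, x ∈ TrivBasic.locus w ↔ IsUnit (X.presheaf.germ V x hxV (a w)) := fun w => by
      rw [← X.mem_basicOpen _ x hxV, ← TrivBasic.locus_eq_basicOpen hfr (ha w)]
      exact ⟨fun h => ⟨h, hxV⟩, fun h => h.1⟩
    obtain ⟨c, rfl⟩ := hspan z
    refine (IsLocalRing.mem_maximalIdeal _).1 ?_ ((hnot _).1 hz)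
    have hsum : a (∑ j, (X ↘ Spec (CommRingCat.of k)).appTop ((Scheme.ΓSpecIso (CommRingCat.of k)).inv (c j)) • σ j) =
        ∑ j, AModX.resR (le_top : V ≤ ⊤)
          ((X ↘ Spec (CommRingCat.of k)).appTop ((Scheme.ΓSpecIso (CommRingCat.of k)).inv (c j))) * a (σ j) := by
      refine hfr.coord_unique le_rfl ?_
      rw [AModX.res_self, ← ha, map_sum, Finset.sum_smul]
      exact Finset.sum_congr rfl fun j _ => by rw [AModX.res_smul, ha (σ j), mul_smul]
    rw [hsum, map_sum]
    exact Ideal.sum_mem _ fun j _ => by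
      rw [map_mul]
      exact Ideal.mul_mem_left _ _ ((IsLocalRing.mem_maximalIdeal _).2 fun h => hne j ((hnot _).2 h))
  exact hst.elim (hmem s) (hmem t)

/-- A closed immersion of a curve in an integral plane curve is surjective. -/
theorem surjective_of_dim (hdim : topologicalKrullDim X = 1) {d : ℕ} {G : LefPen.Form 2 k d} (hG : G ≠ 0)
    [IsIntegral (LefPen.hypIdeal G).subscheme] (j : X ⟶ (LefPen.hypIdeal G).subscheme) [IsClosedImmersion j] :
    Surjective j := by
  haveI : IsIntegral (CohB1.ProjSpace 2 k) := H23.PnChart.isIntegral_projSpace 2 k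
  have hP : topologicalKrullDim ↥(CohB1.ProjSpace 2 k) = (2 : ℕ) := S10829.result k 2
  let ι := (LefPen.hypIdeal G).subschemeι
  have hne : Set.range ι ≠ Set.univ := by
    intro h
    haveI : Surjective ι := ⟨Set.range_eq_univ.1 h⟩
    have hker : ι.ker = ⊥ := by
      haveI : IsIso ι := isIso_of_isClosedImmersion_of_surjective ι
      exact Scheme.Hom.ker_eq_bot_of_isIso _
    rw [Scheme.IdealSheafData.ker_subschemeι] at hker
    have h2 := congrArg (fun I : (CohB1.ProjSpace 2 k).IdealSheafData => I.ideal (HypCurve.achart 2 k 0)) hker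
    simp only [HypCurve.hypIdeal_chart, Scheme.IdealSheafData.ideal_bot, Pi.bot_apply, Ideal.span_singleton_eq_bot] at h2
    rw [← HypCurve.chartRingEquiv_dh, map_eq_zero_iff _ (HypCurve.chartRingEquiv (k := k) (0 : Fin (2 + 1))).injective] at h2
    exact HypCurve.dh_ne_zero hG 0 h2
  have hlt : topologicalKrullDim ↥(LefPen.hypIdeal G).subscheme < ((2 : ℕ) : WithBot ℕ∞) := by
    have h := H23.TopDim.dim_lt_of_ssubset (X := ↥(CohB1.ProjSpace 2 k))
      (by rw [hP]; exact ENat.coe_ne_top 2 ∘ WithBot.coe_injective.eq_iff.1) ι.isClosedEmbedding.isClosed_range hne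
    rwa [← IsHomeomorph.topologicalKrullDim_eq _ ι.isClosedEmbedding.isEmbedding.toHomeomorph.isHomeomorph, hP] at h
  refine ⟨Set.range_eq_univ.1 ?_⟩
  by_contra hr
  have h := H23.TopDim.dim_lt_of_ssubset (X := ↥(LefPen.hypIdeal G).subscheme) (ne_top_of_lt hlt)
    j.isClosedEmbedding.isClosed_range hr
  rw [← IsHomeomorph.topologicalKrullDim_eq _ j.isClosedEmbedding.isEmbedding.toHomeomorph.isHomeomorph, hdim] at h
  generalize topologicalKrullDim ↥(LefPen.hypIdeal G).subscheme = D at h hlt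
  cases D with
  | bot => exact not_lt_bot h
  | coe D =>
    cases D with
    | top => exact not_top_lt (WithBot.coe_lt_coe.1 hlt)
    | coe D =>
      have h1 : (1 : ℕ) < D := by exact_mod_cast h
      have h2 : D < 2 := by exact_mod_cast WithBot.coe_lt_coe.1 hlt
      omega

/-- The ordered pairs of indices. -/
def pr : Fin 6 → Fin 3 × Fin 3 := ![(0, 0), (1, 1), (2, 2), (0, 1), (0, 2), (1, 2)]

/-- A curve of genus zero is a diagonal conic. -/
theorem exists_conic (h2 : (2 : k) ≠ 0) (hdim : topologicalKrullDim X = 1)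
    (h0 : Module.finrank k (Coh.HH X (Coh.structureModule X) 0) = 1)
    (h1 : Subsingleton (Coh.HH X (Coh.structureModule X) 1)) :
    ∃ (a b : k), a ≠ 0 ∧ b ≠ 0 ∧
      ∃ j : X ≅ (LefPen.hypIdeal (diag ![1, a, b])).subscheme,
        j.hom ≫ (LefPen.hypIdeal (diag ![1, a, b])).subschemeι ≫ CohB1.ProjSpace.toSpec 2 k =
          X ↘ Spec (CommRingCat.of k) := by
  classical
  haveI := CurveCohLib.isNoetherian_of_proper (k := k) (X := X)
  let f := X ↘ Spec (CommRingCat.of k)
  -- the anticanonical module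
  have hΩ : PicF.IsInvertible (Omega.sheaf f) := CurveBC.isInvertible_omega k X hdim h0
  obtain ⟨L, hL, hdL, -⟩ := CurveDuality.exists_inverse_deg k hdim hΩ
  have hg : Curv2.genus k X = 0 := by
    haveI := h1
    exact Module.finrank_zero_of_subsingleton
  have hd : Curv2.deg k X L 1 = 2 := by
    rw [hdL, (CurveBC.canonical_invariants k X hdim h0).2, hg]; norm_num
  have hL2 : PicF.IsInvertible (CohB1.tensorMod L L) := isInvertible_tensorMod hL hL
  have hn : Module.finrank k (Coh.HH X L 0) = 2 + 1 := by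
    have h := CurveEmbed.h0_eq k hdim h1 hL (by rw [hd]; norm_num)
    rw [hd, h0] at h
    omega
  have hn2 : Module.finrank k (Coh.HH X (CohB1.tensorMod L L) 0) = 5 := by
    have hd2 : Curv2.deg k X (CohB1.tensorMod L L) 1 = 4 := by
      rw [show Curv2.deg k X (CohB1.tensorMod L L) 1 = _ from CurveRR.deg_tensor k hdim hL hL, hd]; norm_num
    have h := CurveEmbed.h0_eq k hdim h1 hL2 (by rw [hd2]; norm_num)
    rw [hd2, h0] at h
    omega
  haveI := CurveCohLib.finite_HH (k := k) (CurveDeg.isCoh_of_isInvertible hL) 0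
  haveI := CurveCohLib.finite_HH (k := k) (CurveDeg.isCoh_of_isInvertible hL2) 0
  obtain ⟨U, hU, e, he⟩ := exists_frame hL (genericPoint X)
  let eq₁ := Sheaf.H.equiv₀ (Coh.toAb L) isTerminalTop
  let eq₂ := Sheaf.H.equiv₀ (Coh.toAb (CohB1.tensorMod L L)) isTerminalTop
  have hsc : ∀ (M : X.Modules) (c : k) (t : Coh.HH X M 0),
      (show Γ(M, ⊤) from Sheaf.H.equiv₀ (Coh.toAb M) isTerminalTop (c • t)) =
        f.appTop ((Scheme.ΓSpecIso (CommRingCat.of k)).inv c) •
          (show Γ(M, ⊤) from Sheaf.H.equiv₀ (Coh.toAb M) isTerminalTop t) := fun M c t => by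
    refine (CurveCohLib.h0Equiv_smul M c t).trans ?_
    exact congrArg (· • _) (ConcreteCategory.congr_hom (X.presheaf.map_id (op ⊤)) _)
  let bs := Module.finBasisOfFinrankEq k (Coh.HH X L 0) hn
  let σ₀ : Fin 3 → Γ(L, ⊤) := fun j => eq₁ (bs j)
  let φ : Fin 3 → X.functionField := fun j => ev he hU (σ₀ j)
  have hφ : ∀ c : Fin 3 → k, ∑ j, cK (X := X) k (c j) * φ j = 0 → c = 0 := by
    intro c hc
    have h : (eq₁ (∑ j, c j • bs j) : Γ(L, ⊤)) = 0 := by
      refine ev_eq_zero he hU hL ?_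
      show evHom he hU _ = 0
      refine ((congrArg (evHom he hU) (map_sum eq₁ _ _)).trans (map_sum (evHom he hU) _ _)).trans ?_
      rw [← hc]
      refine Finset.sum_congr rfl fun j _ => ?_
      show ev he hU _ = _
      exact (congrArg (ev he hU) (hsc L (c j) (bs j))).trans (ev_smul he hU (c j) _)
    have h' : ∑ j, c j • bs j = 0 := eq₁.injective (h.trans (map_zero eq₁).symm)
    exact funext (Fintype.linearIndependent_iff.1 bs.linearIndependent c h')
  -- a quadratic relation
  obtain ⟨B, hB, hB0, hrel⟩ : ∃ B : Matrix (Fin 3) (Fin 3) k, B.IsSymm ∧ B ≠ 0 ∧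
      ∑ i, ∑ j, cK (X := X) k (B i j) * φ i * φ j = 0 := by
    let t : Fin 6 → Coh.HH X (CohB1.tensorMod L L) 0 := fun p =>
      eq₂.symm (tmul (σ₀ (pr p).1) (σ₀ (pr p).2))
    obtain ⟨c, hc, p₀, hp₀⟩ : ∃ c : Fin 6 → k, ∑ p, c p • t p = 0 ∧ ∃ p, c p ≠ 0 := by
      refine Fintype.not_linearIndependent_iff.1 fun hli => ?_
      have := hli.fintype_card_le_finrank
      rw [hn2, Fintype.card_fin] at this
      omega
    have hc' : ∑ p, cK (X := X) k (c p) * (φ (pr p).1 * φ (pr p).2) = 0 := by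
      have h := congrArg (fun x => evHom (isFrame_tmul he he) hU (eq₂ x)) hc
      refine Eq.trans ?_ (h.trans ((congrArg (evHom (isFrame_tmul he he) hU) (map_zero eq₂)).trans (map_zero _)))
      refine (Eq.trans ?_ ((congrArg (evHom (isFrame_tmul he he) hU) (map_sum eq₂ _ _)).trans
        (map_sum (evHom (isFrame_tmul he he) hU) _ _)).symm)
      refine Finset.sum_congr rfl fun p _ => ?_
      refine Eq.trans ?_ ((congrArg (ev (isFrame_tmul he he) hU) (hsc _ (c p) (t p))).trans
        (ev_smul (isFrame_tmul he he) hU (c p) _)).symm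
      rw [show (eq₂ (t p) : Γ(CohB1.tensorMod L L, ⊤)) = tmul (σ₀ (pr p).1) (σ₀ (pr p).2) from
        eq₂.apply_symm_apply _, ev_tmul he hU]
    refine ⟨!![2 * c 0, c 3, c 4; c 3, 2 * c 1, c 5; c 4, c 5, 2 * c 2], ?_, fun h => hp₀ ?_, ?_⟩
    · ext i j; fin_cases i <;> fin_cases j <;> rfl
    · have e0 := congrFun (congrFun h 0) 0
      have e1 := congrFun (congrFun h 1) 1
      have e2 := congrFun (congrFun h 2) 2
      have e3 := congrFun (congrFun h 0) 1
      have e4 := congrFun (congrFun h 0) 2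
      have e5 := congrFun (congrFun h 1) 2
      simp [h2] at e0 e1 e2 e3 e4 e5
      fin_cases p₀ <;> assumption
    · simp [Fin.sum_univ_three, Fin.sum_univ_six, pr] at hc' ⊢
      rw [map_ofNat (cK (X := X) k) 2]
      linear_combination 2 * hc'
  obtain ⟨P, d, hP, hd0, hdrel⟩ := exists_diag_rel h2 (cK (X := X) k) (mem_range_cK hdim h0) φ hφ B hB hB0 hrel
  -- the new sections
  let bs' : Fin 3 → Coh.HH X L 0 := fun l => ∑ j, P l j • bs j
  let σ : Fin (2 + 1) → Γ(L, ⊤) := fun l => eq₁ (bs' l)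
  let g : Fin (2 + 1) → X.functionField := fun l => ev he hU (σ l)
  have hgP : ∀ l, g l = ∑ j, cK (X := X) k (P l j) * φ j := fun l => by
    refine ((congrArg (evHom he hU) (map_sum eq₁ _ _)).trans (map_sum (evHom he hU) _ _)).trans ?_
    exact Finset.sum_congr rfl fun j _ =>
      (congrArg (ev he hU) (hsc L (P l j) (bs j))).trans (ev_smul he hU (P l j) _)
  obtain ⟨U', rfl⟩ := hP
  have hspanbs : ∀ z : Coh.HH X L 0, ∃ c : Fin 3 → k, z = ∑ l, c l • bs' l := fun z => by
    refine ⟨Matrix.vecMul (fun j => bs.repr z j) (↑U'⁻¹ : Matrix (Fin 3) (Fin 3) k), ?_⟩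
    conv_lhs => rw [← bs.sum_repr z]
    simp only [bs', Finset.smul_sum, smul_smul]
    rw [Finset.sum_comm]
    simp only [← Finset.sum_smul]
    refine Finset.sum_congr rfl fun j _ => ?_
    congr 1
    show bs.repr z j = Matrix.vecMul (Matrix.vecMul _ _) (U' : Matrix (Fin 3) (Fin 3) k) j
    rw [Matrix.vecMul_vecMul, U'.inv_mul, Matrix.vecMul_one]
  have hspan : ∀ z : Γ(L, ⊤), ∃ c : Fin (2 + 1) → k,
      z = ∑ j, f.appTop ((Scheme.ΓSpecIso (CommRingCat.of k)).inv (c j)) • σ j := fun z => by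
    obtain ⟨c, hc⟩ := hspanbs (eq₁.symm z)
    refine ⟨c, ?_⟩
    conv_lhs => rw [← eq₁.apply_symm_apply z, hc]
    exact (map_sum eq₁ _ _).trans (Finset.sum_congr rfl fun l _ => hsc L (c l) (bs' l))
  have hg0 : ∀ l, g l ≠ 0 := fun l hl => by
    have h := hφ (fun j => (U' : Matrix (Fin 3) (Fin 3) k) l j) ((hgP l).symm.trans hl)
    have h' := congrFun (congrFun (U'.mul_inv) l) l
    rw [Matrix.mul_apply] at h'
    simp [funext_iff] at h
    simp [h] at h'
  -- the embedding
  obtain ⟨s₀, hs₀⟩ := CurveEmbed.exists_ne_zero k hdim h1 hL (by rw [hd]; norm_num)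
  obtain ⟨t₀, hst⟩ := CurveEmbed.exists_complement k hdim hL hs₀ h1
  have hm := CurveEmbed.mulSurj k hdim hL hs₀ h1
  have hcov : ∀ x : X, ∃ l, x ∈ TrivBasic.locus (σ l) := fun x =>
    exists_mem_locus_of_span hL σ hspan x s₀ t₀ (hst x)
  obtain ⟨r, hr, τ, hτ⟩ := S3572.result 2 f L hL σ (AVAmple.generatedBy_of_locus σ hcov)
  haveI hri : IsClosedImmersion r :=
    CurveEmbed.isClosedImmersion_of_mulSurj f hL (CurveEmbed.finite_of_triv k hdim (by rw [hd]; norm_num))
      hm σ hspan r hr τ hτ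
  have hpre : ∀ i, r ⁻¹ᵁ LefPen.chart 2 k i = TrivBasic.locus (σ i) := fun i =>
    AmpleEmbed.preimage_chart r τ i (hτ i)
  have hη : ∀ i, genericPoint X ∈ r ⁻¹ᵁ LefPen.chart 2 k i := fun i => by
    rw [hpre]
    obtain ⟨z, hz⟩ := (Opens.ne_bot_iff_nonempty _).1 (TrivBasic.locus_ne_bot hL (s := σ i) fun h => hg0 i (by
      show ev he hU (σ i) = 0
      rw [h, ev_zero]))
    exact eta_mem hz
  have hv : ∀ i j (b : Γ(X, r ⁻¹ᵁ LefPen.chart 2 k i)),
      AModX.res L (le_top : r ⁻¹ᵁ LefPen.chart 2 k i ≤ ⊤) (σ j) = b • AModX.res L le_top (σ i) →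
        gη (hη i) b = g j * (g i)⁻¹ := fun i j b hb => by
    have hW : genericPoint X ∈ r ⁻¹ᵁ LefPen.chart 2 k i ⊓ U := ⟨hη i, hU⟩
    obtain ⟨ri, hri⟩ := he.exists_coord (inf_le_right : r ⁻¹ᵁ LefPen.chart 2 k i ⊓ U ≤ U) (AModX.res L le_top (σ i))
    have hb' := congrArg (AModX.res L (inf_le_left : r ⁻¹ᵁ LefPen.chart 2 k i ⊓ U ≤ _)) hb
    rw [AModX.res_res, AModX.res_smul, AModX.res_res, hri, smul_smul] at hb'
    have h1 : g j = gη (hη i) b * g i := by
      show ev he hU (σ j) = _ * ev he hU (σ i)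
      rw [ev_eq he hU inf_le_right hW _ _ hb', ev_eq he hU inf_le_right hW _ _ hri, map_mul,
        gη_res _ hW (hη i)]
    rw [h1, mul_assoc, mul_inv_cancel₀ (hg0 i), mul_one]
  let a := d 1 / d 0
  let b := d 2 / d 0
  let G := diag ![1, a, b]
  have hle : LefPen.hypIdeal G ≤ r.ker := by
    refine sup_eq_right.1 ?_
    refine Scheme.IdealSheafData.ext_of_iSup_eq_top (fun i => HypCurve.achart 2 k i) (HypCurve.iSup_chart 2 k)
      fun i => ?_
    rw [Scheme.IdealSheafData.ideal_sup, Pi.sup_apply, HypCurve.hypIdeal_chart]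
    refine sup_eq_right.2 (Ideal.span_le.2 (Set.singleton_subset_iff.2 ?_))
    rw [Scheme.Hom.ker_apply]
    refine gη_injective (hη i) ?_
    rw [map_zero]
    show HypCurve.chartFun r i (hη i) (LefPen.dehom G i) = 0
    rw [HypCurve.chartFun_dehom_form hr τ hτ i (hη i) (fun j => g j * (g i)⁻¹) (hv i) G]
    have hdr : ∑ l, cK (X := X) k (d l) * g l ^ 2 = 0 := by simpa only [hgP] using hdrel
    have hd00 : cK (X := X) k (d 0) ≠ 0 := fun h => hd0 0 ((cK (X := X) k).injective (h.trans (map_zero _).symm))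
    have := hg0 i
    simp [G, a, b, diag, Fin.sum_univ_three, map_div₀] at hdr ⊢
    field_simp
    linear_combination hdr
  -- the conic
  have hne : ∀ l, (![1, a, b] : Fin 3 → k) l ≠ 0 := fun l => by
    fin_cases l <;> simp [a, b, hd0]
  let V := (LefPen.hypIdeal G).subscheme
  letI : V.Over (Spec (CommRingCat.of k)) := ⟨(LefPen.hypIdeal G).subschemeι ≫ CohB1.ProjSpace.toSpec 2 k⟩
  haveI : Smooth (V ↘ Spec (CommRingCat.of k)) := smooth_diag h2 hne
  haveI : IsIntegral V := HypCurve.isIntegral_planeCurve (by norm_num) (diag_ne_zero (hne 0)) rfl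
  let ι := (LefPen.hypIdeal G).subschemeι
  let j := IsClosedImmersion.lift ι r (by rw [Scheme.IdealSheafData.ker_subschemeι]; exact hle)
  have hj : j ≫ ι = r := IsClosedImmersion.lift_fac _ _ _
  haveI : IsClosedImmersion (j ≫ ι) := by rw [hj]; exact hri
  haveI : IsClosedImmersion j := IsClosedImmersion.of_comp j ι
  haveI : Surjective j := surjective_of_dim hdim (diag_ne_zero (hne 0)) j
  haveI : IsIso j := isIso_of_isClosedImmersion_of_surjective j
  refine ⟨a, b, hne 1, hne 2, asIso j, ?_⟩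
  rw [asIso_hom, ← Category.assoc, hj, hr]

end Curve

end Groth.Agent.EssDimLib.ConicModel
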