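import Groth.Agent.ZetaLib.ProjPoints
import Groth.Agent.HypCurve.Scale
import Mathlib.AlgebraicGeometry.ProjectiveSpectrum.Functor
import Mathlib.LinearAlgebra.Matrix.NonsingularInverse

/-! Rational points of projective space under linear changes of coordinates. -/

set_option autoImplicit false
set_option linter.style.haveILetI false
set_option linter.unusedSectionVars false
set_option backward.isDefEq.respectTransparency false
set_option backward.isDefEq.respectTransparency.types false

universe u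

open CategoryTheory CategoryTheory.Limits AlgebraicGeometry
open HomogeneousLocalization (Away)

noncomputable section

namespace Groth.Agent.EssDimLib.P1Points

variable {n : ℕ} {R : Type u} [CommRing R] {B C : Type u} [CommRing B] [CommRing C]

/-- The ring map of a chart given by an evaluation. -/
def chi (e : MvPolynomial (Fin (n + 1)) R →+* B) (f : MvPolynomial (Fin (n + 1)) R) (hu : IsUnit (e f)) :
    Away (CohB1.polyGrading n R) f →+* B :=
  (IsLocalization.Away.lift (S := Localization (Submonoid.powers f)) f (g := e) hu).comp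
    (algebraMap (Away (CohB1.polyGrading n R) f) (Localization (Submonoid.powers f)))

theorem chi_mk (e : MvPolynomial (Fin (n + 1)) R →+* B) {f : MvPolynomial (Fin (n + 1)) R} {d : ℕ}
    (hf : f ∈ CohB1.polyGrading n R d) (hu : IsUnit (e f)) (m : ℕ) (p : MvPolynomial (Fin (n + 1)) R)
    (hp : p ∈ CohB1.polyGrading n R (m • d)) :
    chi e f hu (Away.mk (CohB1.polyGrading n R) hf m p hp) * e f ^ m = e p := by
  simp only [chi, RingHom.comp_apply, HomogeneousLocalization.algebraMap_apply,
    HomogeneousLocalization.Away.val_mk]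
  rw [← IsLocalization.Away.lift_eq (S := Localization (Submonoid.powers f)) f hu f, ← map_pow, ← map_mul,
    ← IsLocalization.Away.lift_eq (S := Localization (Submonoid.powers f)) f hu p, ← map_pow]
  congr 1
  rw [← Localization.mk_one_eq_algebraMap, ← Localization.mk_one_eq_algebraMap, Localization.mk_mul,
    Localization.mk_eq_mk_iff, Localization.r_iff_exists]
  exact ⟨1, by simp [mul_comm]⟩

theorem chi_ext {f : MvPolynomial (Fin (n + 1)) R} {d : ℕ} (hf : f ∈ CohB1.polyGrading n R d)
    (φ : Away (CohB1.polyGrading n R) f →+* B) (e : MvPolynomial (Fin (n + 1)) R →+* B) (hu : IsUnit (e f))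
    (h : ∀ (m : ℕ) (p : MvPolynomial (Fin (n + 1)) R) (hp : p ∈ CohB1.polyGrading n R (m • d)),
      φ (Away.mk (CohB1.polyGrading n R) hf m p hp) * e f ^ m = e p) :
    φ = chi e f hu := by
  refine RingHom.ext fun a => ?_
  obtain ⟨m, p, hp, rfl⟩ := HomogeneousLocalization.Away.mk_surjective (CohB1.polyGrading n R) hf a
  exact (hu.pow m).mul_left_injective ((h m p hp).trans (chi_mk e hf hu m p hp).symm)

/-- The point given by an evaluation with `f` invertible. -/
def pt (e : MvPolynomial (Fin (n + 1)) R →+* B) {f : MvPolynomial (Fin (n + 1)) R}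
    (hf : f ∈ CohB1.polyGrading n R 1) (hu : IsUnit (e f)) : Spec (CommRingCat.of B) ⟶ CohB1.ProjSpace n R :=
  Spec.map (CommRingCat.ofHom (chi e f hu)) ≫ Proj.awayι (CohB1.polyGrading n R) f hf one_pos

theorem pt_congr {e e' : MvPolynomial (Fin (n + 1)) R →+* B} {f : MvPolynomial (Fin (n + 1)) R}
    (hf : f ∈ CohB1.polyGrading n R 1) (hu : IsUnit (e f)) (h : e = e') :
    pt e hf hu = pt e' hf (h ▸ hu) := by subst h; rfl

theorem pt_comp (g : B →+* C) (e : MvPolynomial (Fin (n + 1)) R →+* B) {f : MvPolynomial (Fin (n + 1)) R}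
    (hf : f ∈ CohB1.polyGrading n R 1) (hu : IsUnit (e f)) :
    Spec.map (CommRingCat.ofHom g) ≫ pt e hf hu = pt (g.comp e) hf (hu.map g) := by
  rw [pt, pt, ← Category.assoc, ← Spec.map_comp, ← CommRingCat.ofHom_comp]
  congr 3
  exact chi_ext hf _ _ _ fun m p hp => by
    simp only [RingHom.comp_apply, ← map_pow, ← map_mul]
    rw [map_pow, chi_mk e hf hu m p hp]

theorem pt_indep (e : MvPolynomial (Fin (n + 1)) R →+* B) {f f' : MvPolynomial (Fin (n + 1)) R}
    (hf : f ∈ CohB1.polyGrading n R 1) (hu : IsUnit (e f)) (hf' : f' ∈ CohB1.polyGrading n R 1)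
    (hu' : IsUnit (e f')) : pt e hf hu = pt e hf' hu' := by
  have hux : IsUnit (e (f * f')) := by rw [map_mul]; exact hu.mul hu'
  have hx : f * f' ∈ CohB1.polyGrading n R (1 + 1) := SetLike.mul_mem_graded hf hf'
  have key : ∀ {g g' : MvPolynomial (Fin (n + 1)) R} (hg : g ∈ CohB1.polyGrading n R 1)
      (hg' : g' ∈ CohB1.polyGrading n R 1) (h : f * f' = g * g') (hug : IsUnit (e g)),
      (chi e (f * f') hux).comp (HomogeneousLocalization.awayMap (CohB1.polyGrading n R) hg' h) = chi e g hug := by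
    intro g g' hg hg' h hug
    refine chi_ext hg _ _ _ fun m p hp => ?_
    simp only [chi, RingHom.comp_apply, HomogeneousLocalization.algebraMap_apply]
    erw [HomogeneousLocalization.val_awayMap_mk]
    rw [← IsLocalization.Away.lift_eq (S := Localization (Submonoid.powers (f * f'))) (f * f') hux g, ← map_pow,
      ← map_mul, ← IsLocalization.Away.lift_eq (S := Localization (Submonoid.powers (f * f'))) (f * f') hux p,
      ← map_pow]
    congr 1
    rw [← Localization.mk_one_eq_algebraMap, ← Localization.mk_one_eq_algebraMap, Localization.mk_mul,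
      Localization.mk_eq_mk_iff, Localization.r_iff_exists]
    exact ⟨1, by simp [h, mul_pow]; ring⟩
  rw [pt, pt, ← key hf hf' rfl hu, ← key hf' hf (mul_comm _ _) hu']
  simp only [CommRingCat.ofHom_comp, Spec.map_comp, Category.assoc]
  congr 1
  exact (Proj.SpecMap_awayMap_awayι (CohB1.polyGrading n R) hf one_pos hf' rfl).trans
    (Proj.SpecMap_awayMap_awayι (CohB1.polyGrading n R) hf' one_pos hf (mul_comm _ _)).symm

theorem pt_scale (e e' : MvPolynomial (Fin (n + 1)) R →+* B) {f : MvPolynomial (Fin (n + 1)) R}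
    (hf : f ∈ CohB1.polyGrading n R 1) (hu : IsUnit (e f)) (hu' : IsUnit (e' f)) (c : B)
    (h : ∀ (m : ℕ) p, p ∈ CohB1.polyGrading n R m → e' p = c ^ m * e p) : pt e hf hu = pt e' hf hu' := by
  rw [pt, pt]
  congr 3
  refine chi_ext hf _ _ _ fun m p hp => ?_
  rw [h 1 f hf, h m p (by simpa using hp), pow_one, mul_pow, mul_left_comm, chi_mk e hf hu m p hp]

theorem pt_map {S : Type u} [CommRing S] (g : CohB1.polyGrading n R →+*ᵍ CohB1.polyGrading n S)
    (hg : HomogeneousIdeal.irrelevant (CohB1.polyGrading n S) ≤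
      (HomogeneousIdeal.irrelevant (CohB1.polyGrading n R)).map g)
    (e : MvPolynomial (Fin (n + 1)) S →+* B) (e₀ : MvPolynomial (Fin (n + 1)) R →+* B) (he : ∀ p, e₀ p = e (g p))
    {f : MvPolynomial (Fin (n + 1)) R} (hf : f ∈ CohB1.polyGrading n R 1) (hu : IsUnit (e (g f))) :
    pt e (g.2 hf) hu ≫ Proj.map g hg = pt e₀ hf (by rw [he]; exact hu) := by
  rw [pt, pt, Category.assoc]
  refine (congrArg (Spec.map _ ≫ ·) (Proj.awayι_comp_map g hg one_pos f hf)).trans ?_
  rw [← Category.assoc, ← Spec.map_comp, ← CommRingCat.ofHom_comp]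
  congr 3
  refine chi_ext hf _ _ _ fun m p hp => ?_
  rw [RingHom.comp_apply, he f, he p, HomogeneousLocalization.Away.map_mk]
  exact chi_mk e (g.2 hf) hu m (g p) _

theorem pt_toSpec (e : MvPolynomial (Fin (n + 1)) R →+* B) {f : MvPolynomial (Fin (n + 1)) R}
    (hf : f ∈ CohB1.polyGrading n R 1) (hu : IsUnit (e f)) :
    pt e hf hu ≫ CohB1.ProjSpace.toSpec n R = Spec.map (CommRingCat.ofHom (e.comp MvPolynomial.C)) := by
  show (_ ≫ _) ≫ Proj.toSpecZero _ ≫ _ = _
  rw [Category.assoc]
  refine (congrArg (Spec.map _ ≫ ·) ((reassoc_of% (Proj.awayι_toSpecZero (CohB1.polyGrading n R) f hf one_pos)) _)).trans ?_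
  rw [← Spec.map_comp, ← Spec.map_comp]
  congr 1
  refine CommRingCat.hom_ext (RingHom.ext fun r => ?_)
  simp only [CommRingCat.hom_comp, CommRingCat.hom_ofHom, RingHom.comp_apply]
  have h := chi_mk e hf hu 0 (MvPolynomial.C r) (by simpa using MvPolynomial.isHomogeneous_C _ r)
  rw [pow_zero, mul_one] at h
  refine (congrArg (chi e f hu) (HomogeneousLocalization.val_injective _ ?_)).trans h
  simp [HomogeneousLocalization.Away.val_mk, ← Localization.mk_one_eq_algebraMap]
  rfl

section Matrix

variable {L : Type u} [Field L]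

/-- The substitution of a matrix. -/
def subst (M : Matrix (Fin (n + 1)) (Fin (n + 1)) L) :
    MvPolynomial (Fin (n + 1)) L →+* MvPolynomial (Fin (n + 1)) L :=
  MvPolynomial.eval₂Hom MvPolynomial.C fun j => ∑ i, MvPolynomial.C (M i j) * MvPolynomial.X i

theorem subst_X (M : Matrix (Fin (n + 1)) (Fin (n + 1)) L) (j : Fin (n + 1)) :
    subst M (MvPolynomial.X j) = ∑ i, MvPolynomial.C (M i j) * MvPolynomial.X i :=
  MvPolynomial.eval₂Hom_X' _ _ _

theorem subst_mem (M : Matrix (Fin (n + 1)) (Fin (n + 1)) L) {d : ℕ} {P : MvPolynomial (Fin (n + 1)) L}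
    (hP : P ∈ CohB1.polyGrading n L d) : subst M P ∈ CohB1.polyGrading n L d := by
  have h : MvPolynomial.IsHomogeneous (subst M P) (1 * d) :=
    MvPolynomial.IsHomogeneous.eval₂ (show MvPolynomial.IsHomogeneous P d from hP) _ _
      (fun a => MvPolynomial.isHomogeneous_C _ _) fun j => MvPolynomial.IsHomogeneous.sum _ _ _ fun i _ => by
      simpa using (MvPolynomial.isHomogeneous_C (Fin (n + 1)) (M i j)).mul (MvPolynomial.isHomogeneous_X L i)
  rwa [one_mul] at h

/-- The substitution as a graded ring map. -/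
def gHom (M : Matrix (Fin (n + 1)) (Fin (n + 1)) L) : CohB1.polyGrading n L →+*ᵍ CohB1.polyGrading n L :=
  { subst M with map_mem := fun h => subst_mem M h }

theorem subst_comp (M N : Matrix (Fin (n + 1)) (Fin (n + 1)) L) :
    (subst M).comp (subst N) = subst (M * N) := by
  refine MvPolynomial.ringHom_ext (fun r => by simp [subst]) fun j => ?_
  rw [RingHom.comp_apply, subst_X, subst_X, map_sum]
  simp only [map_mul, subst_X, Finset.mul_sum, Matrix.mul_apply, map_sum, Finset.sum_mul]
  rw [Finset.sum_comm]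
  refine Finset.sum_congr rfl fun i _ => Finset.sum_congr rfl fun l _ => ?_
  simp [subst]
  ring

theorem subst_one : subst (1 : Matrix (Fin (n + 1)) (Fin (n + 1)) L) = RingHom.id _ := by
  refine MvPolynomial.ringHom_ext (fun r => by simp [subst]) fun j => ?_
  rw [subst_X]
  simp [Matrix.one_apply, ite_mul, apply_ite MvPolynomial.C]

theorem irrelevant_le {M N : Matrix (Fin (n + 1)) (Fin (n + 1)) L} (h : M * N = 1) :
    HomogeneousIdeal.irrelevant (CohB1.polyGrading n L) ≤
      (HomogeneousIdeal.irrelevant (CohB1.polyGrading n L)).map (gHom M) := by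
  intro p hp
  refine (Ideal.span_le.2 ?_) (SegreX.irrelevant_le_span n L hp)
  rintro _ ⟨i, rfl⟩
  show MvPolynomial.X i ∈ Ideal.map (gHom M) (HomogeneousIdeal.irrelevant (CohB1.polyGrading n L)).toIdeal
  have e : gHom M (subst N (MvPolynomial.X i)) = MvPolynomial.X i :=
    RingHom.congr_fun ((subst_comp M N).trans (by rw [h, subst_one])) _
  rw [← e]
  exact Ideal.mem_map_of_mem _ (HomogeneousIdeal.mem_irrelevant_of_mem _ one_pos
    (subst_mem N (MvPolynomial.isHomogeneous_X L i)))

/-- The automorphism of an invertible matrix. -/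
theorem exists_iso (M : Matrix (Fin (n + 1)) (Fin (n + 1)) L) (hM : IsUnit M) :
    ∃ (h : HomogeneousIdeal.irrelevant (CohB1.polyGrading n L) ≤
      (HomogeneousIdeal.irrelevant (CohB1.polyGrading n L)).map (gHom M)),
      IsIso (show CohB1.ProjSpace n L ⟶ CohB1.ProjSpace n L from Proj.map (gHom M) h) := by
  obtain ⟨U, rfl⟩ := hM
  let N : Matrix (Fin (n + 1)) (Fin (n + 1)) L := ↑U⁻¹
  have hMN : (U : Matrix (Fin (n + 1)) (Fin (n + 1)) L) * N = 1 := U.mul_inv
  have hNM : N * (U : Matrix (Fin (n + 1)) (Fin (n + 1)) L) = 1 := U.inv_mul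
  have hid : ∀ {A B : Matrix (Fin (n + 1)) (Fin (n + 1)) L}, A * B = 1 →
      (gHom A).comp (gHom B) = GradedRingHom.id _ := fun {A B} h => by
    refine DFunLike.ext _ _ fun p => ?_
    exact RingHom.congr_fun ((subst_comp A B).trans (by rw [h, subst_one]; rfl)) p
  have hcong : ∀ (g g' : CohB1.polyGrading n L →+*ᵍ CohB1.polyGrading n L) (e : g = g') (h) (h'),
      Proj.map g h = Proj.map g' h' := by
    rintro g _ rfl _ _; rfl
  refine ⟨irrelevant_le hMN, Proj.map (gHom N) (irrelevant_le hNM), ?_, ?_⟩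
  · exact (Proj.map_comp (gHom N) (gHom (U : Matrix (Fin (n + 1)) (Fin (n + 1)) L)) (irrelevant_le hNM) (irrelevant_le hMN)).symm.trans
      ((hcong _ _ (hid hMN) _ (by simp)).trans Proj.map_id)
  · exact (Proj.map_comp (gHom (U : Matrix (Fin (n + 1)) (Fin (n + 1)) L)) (gHom N) (irrelevant_le hMN) (irrelevant_le hNM)).symm.trans
      ((hcong _ _ (hid hNM) _ (by simp)).trans Proj.map_id)

theorem gHom_toSpec (M : Matrix (Fin (n + 1)) (Fin (n + 1)) L) (h) :
    (show CohB1.ProjSpace n L ⟶ CohB1.ProjSpace n L from Proj.map (gHom M) h) ≫ CohB1.ProjSpace.toSpec n L =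
      CohB1.ProjSpace.toSpec n L := by
  refine (Proj.mapAffineOpenCover _ h).openCover.hom_ext _ _ fun s => ?_
  show Proj.awayι _ _ _ _ ≫ Proj.map _ h ≫ Proj.toSpecZero _ ≫ _ = Proj.awayι _ _ _ _ ≫ Proj.toSpecZero _ ≫ _
  rw [Proj.awayι_comp_map_assoc _ _ _ _ s.2.2, Proj.awayι_toSpecZero_assoc, Proj.awayι_toSpecZero_assoc,
    ← Spec.map_comp, ← Spec.map_comp, ← Spec.map_comp]
  congr 1
  refine CommRingCat.hom_ext (RingHom.ext fun r => HomogeneousLocalization.val_injective _ ?_)
  simp only [CommRingCat.hom_comp, CommRingCat.hom_ofHom, RingHom.comp_apply]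
  simp [HomogeneousLocalization.Away.map, HomogeneousLocalization.fromZeroRingHom,
    HomogeneousLocalization.val_mk, gHom, subst]
  rw [HomogeneousLocalization.map_mk, HomogeneousLocalization.val_mk]
  simp

variable (n L) in
/-- Evaluation at a vector. -/
abbrev ev (v : Fin (n + 1) → L) : MvPolynomial (Fin (n + 1)) L →+* L := MvPolynomial.eval v

/-- The coordinate points. -/
def std (n : ℕ) (L : Type u) [Field L] (i : Fin (n + 1)) : Spec (CommRingCat.of L) ⟶ CohB1.ProjSpace n L :=
  pt (MvPolynomial.eval (Pi.single i (1 : L))) (MvPolynomial.isHomogeneous_X L i) (by simp)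

/-- Every rational point is given by a vector. -/
theorem exists_vec (s : Spec (CommRingCat.of L) ⟶ CohB1.ProjSpace n L)
    (hs : s ≫ CohB1.ProjSpace.toSpec n L = 𝟙 _) :
    ∃ (i : Fin (n + 1)) (v : Fin (n + 1) → L) (hv : v i = 1),
      pt (MvPolynomial.eval v) (MvPolynomial.isHomogeneous_X L i) (by simp [hv]) = s := by
  obtain ⟨i, hi⟩ := ZetaLib.exists_mem_chart (n := n) (k := L) (s (IsLocalRing.closedPoint L))
  have hsub : Set.range s ⊆ Set.range (ZetaLib.chart n L i) := by
    rintro _ ⟨y, rfl⟩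
    obtain rfl : y = IsLocalRing.closedPoint L := Subsingleton.elim (α := PrimeSpectrum L) _ _
    exact hi
  obtain ⟨φ, hφ⟩ : ∃ φ : Away (CohB1.polyGrading n L) (MvPolynomial.X i) →+* L,
      Spec.map (CommRingCat.ofHom φ) ≫ ZetaLib.chart n L i = s :=
    ⟨(Spec.preimage (IsOpenImmersion.lift (ZetaLib.chart n L i) s hsub)).hom, by
      rw [CommRingCat.ofHom_hom, Spec.map_preimage, IsOpenImmersion.lift_fac]⟩
  have hb : φ.comp (ZetaLib.base n L i) = RingHom.id L := by
    have h := congrArg (· ≫ CohB1.ProjSpace.toSpec n L) hφ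
    simp only [Category.assoc, ZetaLib.chart_toSpec, hs, ← Spec.map_comp] at h
    exact congrArg CommRingCat.Hom.hom (Spec.map_injective (h.trans (Spec.map_id _).symm))
  have hii : φ (ZetaLib.coord n L i i) = 1 := by
    rw [← map_one φ]
    congr 1
    refine HomogeneousLocalization.val_injective _ ?_
    rw [ZetaLib.coord, HomogeneousLocalization.Away.val_mk, HomogeneousLocalization.val_one,
      ← Localization.mk_self (⟨MvPolynomial.X i ^ 1, 1, rfl⟩ : Submonoid.powers (MvPolynomial.X (R := L) i))]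
    simp only [pow_one]
  refine ⟨i, fun l => φ (ZetaLib.coord n L i l), hii, ?_⟩
  have e : ZetaLib.evalAt i (fun l => φ (ZetaLib.coord n L i l)) hii = φ :=
    ZetaLib.ringHom_eq_iff i (by rw [ZetaLib.evalAt_base, hb]; rfl) fun l => ZetaLib.evalAt_coord i _ hii l
  rw [← hφ]
  exact congrArg (fun ψ => Spec.map (CommRingCat.ofHom ψ) ≫ ZetaLib.chart n L i) e

/-- Two distinct rational points of the line are moved to the coordinate points by an automorphism. -/
theorem exists_aut (a b : Spec (CommRingCat.of L) ⟶ CohB1.ProjSpace 1 L)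
    (ha : a ≫ CohB1.ProjSpace.toSpec 1 L = 𝟙 _) (hb : b ≫ CohB1.ProjSpace.toSpec 1 L = 𝟙 _) (hne : a ≠ b) :
    ∃ σ : CohB1.ProjSpace 1 L ≅ CohB1.ProjSpace 1 L, σ.hom ≫ CohB1.ProjSpace.toSpec 1 L = CohB1.ProjSpace.toSpec 1 L ∧
      std 1 L 0 ≫ σ.hom = a ∧ std 1 L 1 ≫ σ.hom = b := by
  obtain ⟨i, v, hv, rfl⟩ := exists_vec a ha
  obtain ⟨j, w, hw, rfl⟩ := exists_vec b hb
  let M : Matrix (Fin (1 + 1)) (Fin (1 + 1)) L := Matrix.of ![v, w]
  have hdet : M.det ≠ 0 := by
    intro h
    refine hne ?_
    have h2 : v 0 * w 1 = v 1 * w 0 := by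
      rw [show M.det = v 0 * w 1 - v 1 * w 0 from Matrix.det_fin_two M] at h
      linear_combination h
    have hwv : ∀ l, w l = w i * v l := by
      intro l
      fin_cases i <;> fin_cases l <;> simp at hv ⊢ <;> simp [hv] at h2 ⊢ <;>
        first | linear_combination h2 | linear_combination -h2
    have hc : w i ≠ 0 := fun h0 => one_ne_zero (α := L) (by rw [← hw, hwv j, h0, zero_mul])
    have hwi : MvPolynomial.eval w (MvPolynomial.X i) ≠ 0 := by simpa using hc
    refine (pt_scale _ (MvPolynomial.eval w) _ _ (isUnit_iff_ne_zero.2 hwi) (w i) fun m p hp => ?_).trans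
      (pt_indep _ _ (isUnit_iff_ne_zero.2 hwi) _ _)
    rw [show w = fun l => w i * v l from funext hwv]
    simp only [hv, mul_one]
    classical
    simp only [MvPolynomial.eval_eq', Finset.mul_sum]
    refine Finset.sum_congr rfl fun d hd => ?_
    have hdm : ∑ l, d l = m := by
      have := (show MvPolynomial.IsHomogeneous p m from hp) (MvPolynomial.mem_support_iff.1 hd)
      simpa [Finsupp.weight_apply, Finsupp.sum_fintype] using this
    simp only [mul_pow, Finset.prod_mul_distrib, Finset.prod_pow_eq_pow_sum, hdm]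
    ring
  obtain ⟨h, hiso⟩ := exists_iso M ((Matrix.isUnit_iff_isUnit_det M).2 (isUnit_iff_ne_zero.2 hdet))
  refine ⟨@asIso _ _ _ _ _ hiso, gHom_toSpec M h, ?_, ?_⟩
  all_goals
    have he : ∀ l p, MvPolynomial.eval (M l) p = MvPolynomial.eval (Pi.single l 1) (gHom M p) := fun l p =>
      RingHom.congr_fun (MvPolynomial.ringHom_ext (fun r => by simp [subst]) fun j => by
        simp [subst_X, Pi.single_apply, Fin.sum_univ_two]
        fin_cases l <;> simp :
        MvPolynomial.eval (M l) = (MvPolynomial.eval (Pi.single l (1 : L))).comp (subst M)) p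
  · have hu : IsUnit (MvPolynomial.eval (Pi.single 0 1) (gHom M (MvPolynomial.X i))) := by
      rw [← he]; simp [M, hv]
    exact (congrArg (· ≫ _) (pt_indep _ _ _ _ hu)).trans
      ((pt_map (gHom M) h _ (MvPolynomial.eval v) (he 0) (MvPolynomial.isHomogeneous_X L i) hu).trans rfl)
  · have hu : IsUnit (MvPolynomial.eval (Pi.single 1 1) (gHom M (MvPolynomial.X j))) := by
      rw [← he]; simp [M, hw]
    exact (congrArg (· ≫ _) (pt_indep _ _ _ _ hu)).trans
      ((pt_map (gHom M) h _ (MvPolynomial.eval w) (he 1) (MvPolynomial.isHomogeneous_X L j) hu).trans rfl)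

theorem std_toSpec (i : Fin (n + 1)) : std n L i ≫ CohB1.ProjSpace.toSpec n L = 𝟙 _ := by
  rw [std, pt_toSpec, ← Spec.map_id]
  congr 1
  ext r
  simp

theorem std_ne_apply : std 1 L 0 (IsLocalRing.closedPoint L) ≠ std 1 L 1 (IsLocalRing.closedPoint L) := by
  intro h1
  have h' : ZetaLib.pointAt (K := L) (k := L) (0 : Fin (1 + 1)) (Pi.single 0 1) (by simp) (IsLocalRing.closedPoint L) =
      ZetaLib.pointAt (K := L) (k := L) (1 : Fin (1 + 1)) (Pi.single 1 1) (by simp) (IsLocalRing.closedPoint L) := h1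
  have := (ZetaLib.pointAt_mem_iff (k := L) (0 : Fin (1 + 1)) (Pi.single 0 (1 : L)) (by simp) 1).1
    (h'.symm ▸ (ZetaLib.pointAt_mem_iff (k := L) (1 : Fin (1 + 1)) (Pi.single 1 (1 : L)) (by simp) 1).2 (by simp))
  simp at this

theorem std_ne : std 1 L 0 ≠ std 1 L 1 := fun h => std_ne_apply (by rw [h])

/-- The coordinate points are compatible with field extensions. -/
theorem std_scale (K : Type u) [Field K] [Algebra K L] (i : Fin (n + 1)) :
    std n L i ≫ HypCurve.Scale.map K L (fun _ => 1) =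
      Spec.map (CommRingCat.ofHom (algebraMap K L)) ≫ std n K i := by
  have he : ∀ p, ((algebraMap K L).comp (MvPolynomial.eval (Pi.single i (1 : K)))) p =
      MvPolynomial.eval (Pi.single i (1 : L)) (HypCurve.Scale.gHom K L (fun _ => 1) p) := fun p =>
    RingHom.congr_fun (MvPolynomial.ringHom_ext (fun r => by simp [HypCurve.Scale.subst])
      (fun j => by rcases eq_or_ne j i with rfl | hj <;> simp [HypCurve.Scale.subst, *]) :
      (algebraMap K L).comp (MvPolynomial.eval (Pi.single i (1 : K))) =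
        (MvPolynomial.eval (Pi.single i (1 : L))).comp (HypCurve.Scale.subst K L fun _ => 1)) p
  have hu : IsUnit (MvPolynomial.eval (Pi.single i (1 : L))
      (HypCurve.Scale.gHom K L (fun _ => 1) (MvPolynomial.X i))) := by
    rw [← he]; simp
  rw [std, std, pt_comp]
  exact (congrArg (· ≫ _) (pt_indep _ _ _ _ hu)).trans
    (pt_map (HypCurve.Scale.gHom K L fun _ => 1) _ _ _ he _ hu)

end Matrix

end Groth.Agent.EssDimLib.P1Points
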